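import Cfsg.Agent.SoftSubgroups.Basic

/-!
The induction along the normalizer tower of a soft subgroup.
-/

set_option autoImplicit false

namespace CfsgLib.Soft

open scoped commutatorElement
open Subgroup

universe u

variable {p : ℕ}

theorem le_of_prime_card {P : Type u} [Group P] [hp : Fact p.Prime] {A B : Subgroup P}
    (hA : Nat.card A = p) {v : P} (hvA : v ∈ A) (hv : v ≠ 1) (hvB : v ∈ B) : A ≤ B := by
  haveI : Finite A := Nat.finite_of_card_ne_zero (hA ▸ hp.out.pos.ne')
  have hle : zpowers v ≤ A := zpowers_le.mpr hvA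
  have hd := card_dvd_of_le hle
  rw [hA] at hd
  rcases (Nat.dvd_prime hp.out).mp hd with h | h
  · rw [Nat.card_zpowers, orderOf_eq_one_iff] at h
    exact absurd h hv
  · have : zpowers v = A := SetLike.coe_injective (Set.eq_of_subset_of_ncard_le hle
      (by rw [← Nat.card_coe_set_eq, ← Nat.card_coe_set_eq]; exact (hA.trans h.symm).le)
      (Set.toFinite (A : Set P)))
    exact this ▸ zpowers_le.mpr hvB

theorem card_sup_le {P : Type u} [Group P] [Finite P] {A B : Subgroup P}
    (h : ∀ a ∈ A, ∀ b ∈ B, Commute a b) :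
    Nat.card (A ⊔ B : Subgroup P) ≤ Nat.card A * Nat.card B := by
  let φ : A × B →* P :=
    { toFun := fun x => (x.1 : P) * (x.2 : P)
      map_one' := by simp
      map_mul' := fun x y => by
        show (x.1 : P) * y.1 * ((x.2 : P) * y.2) = (x.1 : P) * x.2 * ((y.1 : P) * y.2)
        rw [show (x.1 : P) * y.1 * ((x.2 : P) * y.2) = x.1 * ((y.1 : P) * x.2) * y.2 by group,
          (h _ y.1.2 _ x.2.2).eq]
        group }
  have hle : A ⊔ B ≤ φ.range :=
    sup_le (fun a ha => ⟨(⟨a, ha⟩, 1), mul_one a⟩) (fun b hb => ⟨(1, ⟨b, hb⟩), one_mul b⟩)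
  calc Nat.card (A ⊔ B : Subgroup P) ≤ Nat.card φ.range :=
        Nat.le_of_dvd Nat.card_pos (card_dvd_of_le hle)
    _ ≤ Nat.card (A × B) := Nat.card_le_card_of_surjective φ.rangeRestrict φ.rangeRestrict_surjective
    _ = _ := Nat.card_prod A B

theorem map_tower_eq {P : Type u} [Group P] {E : Subgroup P} {n : ℕ} {x : P}
    (hx : x ∈ tower E (n + 1)) :
    (tower E n).map (MulAut.conj x).toMonoidHom = tower E n := by
  ext z
  constructor
  · rintro ⟨w, hw, rfl⟩
    exact (mem_tower_succ_iff.mp hx w).mp hw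
  · intro hz
    refine ⟨x⁻¹ * z * x, (mem_tower_succ_iff.mp hx _).mpr ?_, ?_⟩
    · rwa [show x * (x⁻¹ * z * x) * x⁻¹ = z by group]
    · show x * (x⁻¹ * z * x) * x⁻¹ = z
      group

theorem E_ne_bot {P : Type u} [Group P] {E : Subgroup P} (hE : IsSoft p E) {n : ℕ}
    (h : tower E n ≠ ⊤) : E ≠ ⊥ := fun e => h (top_le_iff.mp (by
  have h' : (⊤ : Subgroup P) ≤ E := fun x _ => hE.cent (mem_centralizer_iff.mpr fun y hy => by
    rw [e, SetLike.mem_coe, mem_bot] at hy
    rw [hy, one_mul, mul_one])
  exact h'.trans (le_tower E n)))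

section Main

variable [hp : Fact p.Prime]

/-- The bottom line of the first level commutators. -/
theorem commutator_level_one_le {P : Type u} [Group P] [Finite P] (hP : IsPGroup p P)
    {E : Subgroup P} (hE : IsSoft p E) (h1 : tower E 1 ≠ ⊤) :
    ⁅tower E 1, tower E 1⁆ ≤ ⁅E, tower E 1⁆ := by
  obtain ⟨y, -, hle, hgen, -, hcomm, -, -⟩ := level_one hP hE h1
  rw [commutator_le]
  intro g₁ hg₁ g₂ hg₂
  have hclo : closure ((E : Set P) ∪ E.map (MulAut.conj y).toMonoidHom) = tower E 1 := by
    rw [Subgroup.closure_union, closure_eq, closure_eq, hgen]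
  have hsub := Set.union_subset (le_tower E 1) hle
  rw [← hclo] at hg₁ hg₂
  refine commutator_le_of_closure (C := ⁅E, tower E 1⁆) ?_ hsub hsub ?_ g₁ hg₁ g₂ hg₂
  · intro c hc k hk
    have hcZ := hcomm (commutator_mono (le_tower E 1) le_rfl hc)
    rw [← (centralizes_of_mem_inf hE hgen hcZ k hk).eq, mul_inv_cancel_right]
    exact hc
  · rintro s (hs | hs) t (ht | ht)
    · exact commutator_mem_commutator hs (le_tower E 1 ht)
    · exact commutator_mem_commutator hs (hle ht)
    · rw [← commutatorElement_inv]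
      exact inv_mem (commutator_mem_commutator ht (hle hs))
    · rw [commutatorElement_eq_one_iff_commute.mpr ((hE.map (MulAut.conj y)).comm s hs t ht)]
      exact one_mem _

/-- The commutator of the first level is central at every higher level except the top. -/
theorem commutator_le_inf {P : Type u} [Group P] [Finite P] (hP : IsPGroup p P)
    {E : Subgroup P} (hE : IsSoft p E) {m : ℕ} (hne : tower E (m + 2) ≠ ⊤)
    (hs : Steps p E (m + 2)) (hclass : (tower E (m + 1)).lowerCentralSeries (m + 2) = ⊥)
    {y : P} (hy : y ∈ tower E (m + 3))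
    (hle : E.map (MulAut.conj y).toMonoidHom ≤ tower E (m + 2)) :
    ⁅E, tower E 1⁆ ≤ E ⊓ E.map (MulAut.conj y).toMonoidHom := by
  have hneA : tower E (m + 1) ≠ ⊤ := fun e =>
    hne (top_le_iff.mp (e ▸ tower_le_succ E (m + 1)))
  have hne1 : tower E 1 ≠ ⊤ := fun e =>
    hneA (top_le_iff.mp (e ▸ tower_mono E (by omega)))
  obtain ⟨-, -, -, -, -, -, -, hCcard⟩ := level_one hP hE hne1
  obtain ⟨y', hy', hle', hgen', hmap'⟩ :=
    exists_conjugate hP (n := m + 1) (fun j hj => hs j (by omega)) hneA
  set A := tower E (m + 1) with hA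
  set K := tower E (m + 2) with hK
  set C := ⁅E, tower E 1⁆ with hC
  set E' := E.map (MulAut.conj y).toMonoidHom with hE'
  set E'' := E.map (MulAut.conj y').toMonoidHom with hE''
  set C' := C.map (MulAut.conj y).toMonoidHom with hC'
  set C'' := C.map (MulAut.conj y').toMonoidHom with hC''
  have hsE' : IsSoft p E' := hE.map _
  have hsE'' : IsSoft p E'' := hE.map _
  have hC'eq : C' = ⁅E', tower E' 1⁆ := by rw [hC', hC, map_commutator, hE', tower_map]
  have hC''eq : C'' = ⁅E'', tower E'' 1⁆ := by rw [hC'', hC, map_commutator, hE'', tower_map]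
  set U := A.lowerCentralSeries m with hU
  set D := A.lowerCentralSeries (m + 1) with hDdef
  have hDsucc : D = ⁅U, A⁆ := Subgroup.lowerCentralSeries_succ A m
  have hDne : D ≠ ⊥ := lower_ne_bot hP hE (Or.inl hneA) (E_ne_bot hE hneA)
  have hDA : D ≤ A := lowerCentralSeries_le_self A _
  have hDc : ∀ d ∈ D, ∀ k ∈ A, Commute d k := fun d hd k hk => by
    have := commutator_mem_commutator hd hk
    rw [hDdef, ← Subgroup.lowerCentralSeries_succ, hclass, mem_bot,
      commutatorElement_eq_one_iff_commute] at this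
    exact this
  have hUA : U ≤ A := lowerCentralSeries_le_self A _
  have hUD : ∀ x ∈ U, ∀ k ∈ A, ⁅x, k⁆ ∈ D := fun x hx k hk => by
    rw [hDsucc]; exact commutator_mem_commutator hx hk
  have hDE : ∀ d ∈ D, d ∈ E ∧ d ∈ E'' := fun d hd =>
    mem_inf.mp (mem_inf_of_centralizes hE hle' (hDc d hd))
  have hUT : ∀ x ∈ U, x ∈ tower E 1 := fun x hx => mem_normalizer_of_commutator fun e he =>
    (hDE _ (hUD x hx e (le_tower E _ he))).1
  have hUT'' : ∀ x ∈ U, x ∈ tower E'' 1 := fun x hx => mem_normalizer_of_commutator fun e he =>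
    (hDE _ (hUD x hx e (hle' he))).2
  have hCD : C ≤ D := by
    obtain ⟨u, hu, huE⟩ : ∃ u ∈ U, u ∉ E := by
      by_contra hcon
      push Not at hcon
      apply hDne
      rw [hDsucc, eq_bot_iff, commutator_le]
      intro x hx k hk
      rw [mem_bot, commutatorElement_eq_one_iff_commute]
      refine centralizes_of_mem_inf hE hgen' (mem_inf.mpr ⟨hcon x hx, ?_⟩) k hk
      have hUmap : U.map (MulAut.conj y').toMonoidHom = U := by
        rw [hU, map_lowerCentralSeries, hA, hmap']
      rw [← hUmap] at hx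
      obtain ⟨w, hw, rfl⟩ := hx
      exact ⟨w, hcon w hw, rfl⟩
    obtain ⟨e, he, hne'⟩ : ∃ e ∈ E, ¬ Commute u e := by
      by_contra hcon
      push Not at hcon
      exact huE (hE.cent (mem_centralizer_iff.mpr fun e he => (hcon e he).eq.symm))
    refine le_of_prime_card hCcard (v := ⁅u, e⁆) ?_
      (fun h => hne' (commutatorElement_eq_one_iff_commute.mp h))
      (hUD u hu e (le_tower E _ he))
    rw [← commutatorElement_inv]
    exact inv_mem (commutator_mem_commutator he (hUT u hu))
  have hDle : D ≤ C ⊔ C'' := by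
    refine le_trans ?_ (inf_le_left (b := D))
    rw [hDsucc, commutator_le, ← hDsucc]
    intro x hx k hk
    rw [← closure_eq U] at hx
    rw [← hgen', ← closure_eq E, ← closure_eq E'', ← Subgroup.closure_union] at hk
    refine commutator_le_of_closure (C := (C ⊔ C'') ⊓ D) (K := A) ?_ (fun z hz => hUA hz)
      (Set.union_subset (le_tower E _) hle') ?_ x hx k hk
    · intro c hc k hk
      rw [← (hDc c (mem_inf.mp hc).2 k hk).eq, mul_inv_cancel_right]
      exact hc
    · rintro s hs t (ht | ht)
      · refine mem_inf.mpr ⟨mem_sup_left ?_, hUD s hs t (le_tower E _ ht)⟩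
        rw [← commutatorElement_inv]
        exact inv_mem (commutator_mem_commutator ht (hUT s hs))
      · refine mem_inf.mpr ⟨mem_sup_right ?_, hUD s hs t (hle' ht)⟩
        rw [← commutatorElement_inv, hC''eq]
        exact inv_mem (commutator_mem_commutator ht (hUT'' s hs))
  have hC''A : C'' ≤ A := by
    rw [← hmap']
    exact map_mono (hCD.trans hDA)
  have hDcard : Nat.card D ≤ p * p := by
    calc Nat.card D ≤ Nat.card (C ⊔ C'' : Subgroup P) :=
          Nat.le_of_dvd Nat.card_pos (card_dvd_of_le hDle)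
      _ ≤ Nat.card C * Nat.card C'' :=
          card_sup_le fun a ha b hb => hDc a (hCD ha) b (hC''A hb)
      _ = p * p := by rw [hC'', card_map_of_injective (MulAut.conj y').injective, hCcard]
  have hDconj : ∀ k ∈ K, D.map (MulAut.conj k).toMonoidHom = D := fun k hk => by
    rw [hDdef, map_lowerCentralSeries, hA, map_tower_eq hk]
  have hKconj : ∀ k ∈ K, K.map (MulAut.conj k).toMonoidHom = K := fun k hk =>
    map_tower_eq (tower_le_succ E _ hk)
  have hnorm : ∀ X : Subgroup P, (∀ k ∈ K, X.map (MulAut.conj k).toMonoidHom = X) →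
      ⁅X, K⁆ ≤ X := by
    intro X hX
    rw [commutator_le]
    intro a ha k hk
    rw [commutatorElement_def, mul_assoc a, mul_assoc a]
    exact mul_mem ha ((hX k hk) ▸ ⟨a⁻¹, inv_mem ha, rfl⟩)
  set A1 := ⁅D, K⁆ with hA1
  have hA1conj : ∀ k ∈ K, A1.map (MulAut.conj k).toMonoidHom = A1 := fun k hk => by
    rw [hA1, map_commutator, hDconj k hk, hKconj k hk]
  have hA1D : A1 ≤ D := hnorm D hDconj
  have hA1card : Nat.card A1 ∣ p := by
    obtain ⟨i, hi⟩ := (hP.to_subgroup A1).exists_card_eq
    rw [hi]
    rcases Nat.lt_or_ge i 2 with h | h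
    · calc p ^ i ∣ p ^ 1 := pow_dvd_pow p (by omega)
        _ = p := pow_one p
    · exfalso
      have hlt := lt_of_commutator hP (K := K) hDne (hDA.trans (tower_le_succ E _)) hA1D
      have hcl : Nat.card A1 < Nat.card D := lt_of_le_of_ne
        (Nat.le_of_dvd Nat.card_pos (card_dvd_of_le hA1D))
        (fun h => hlt.ne (eq_of_le_card hA1D h.ge))
      have h2 : p ^ 2 ≤ p ^ i := Nat.pow_le_pow_right hp.out.pos h
      rw [pow_two, ← hi] at h2
      omega
  have hA1c : ∀ v ∈ A1, ∀ k ∈ K, Commute v k := by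
    have hbot : ⁅A1, K⁆ = ⊥ := by
      by_cases h : A1 = ⊥
      · rw [h, commutator_bot_left]
      have hlt := lt_of_commutator hP (K := K) h (hA1D.trans (hDA.trans (tower_le_succ E _)))
        (hnorm A1 hA1conj)
      have hcl : Nat.card (⁅A1, K⁆ : Subgroup P) < Nat.card A1 := lt_of_le_of_ne
        (Nat.le_of_dvd Nat.card_pos (card_dvd_of_le hlt.le))
        (fun e => hlt.ne (eq_of_le_card hlt.le e.ge))
      have hd := (card_dvd_of_le hlt.le).trans hA1card
      rcases (Nat.dvd_prime hp.out).mp hd with h1 | h1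
      · exact eq_bot_of_card_eq _ h1
      · have := Nat.le_of_dvd hp.out.pos hA1card
        omega
    intro v hv k hk
    exact commutatorElement_eq_one_iff_commute.mp (mem_bot.mp (hbot ▸ commutator_mem_commutator hv hk))
  intro c hc
  have hcD := hCD hc
  refine mem_inf.mpr ⟨(hDE c hcD).1, hsE'.cent (mem_centralizer_iff.mpr fun e he => ?_)⟩
  by_contra hne'
  -- `c` normalizes the conjugate
  have hcT : c ∈ tower E' 1 := mem_normalizer_of_commutator fun w hw =>
    hsE'.cent (mem_centralizer_iff.mpr fun z hz =>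
      (hA1c _ (commutator_mem_commutator hcD (hle hw)) z (hle hz)).eq.symm)
  have hv : ⁅c, e⁆ ≠ 1 := fun h => hne' (commutatorElement_eq_one_iff_commute.mp h).eq.symm
  have hvC' : ⁅c, e⁆ ∈ C' := by
    rw [hC'eq, ← commutatorElement_inv]
    exact inv_mem (commutator_mem_commutator he hcT)
  have hC'A1 : C' ≤ A1 := le_of_prime_card
    (by rw [hC', card_map_of_injective (MulAut.conj y).injective, hCcard]) hvC' hv
    (commutator_mem_commutator hcD (hle he))
  apply hne'
  have hK' : K.map (MulAut.conj y).toMonoidHom = K := map_tower_eq hy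
  have h1 : Commute (y * c * y⁻¹) (y * e * y⁻¹) :=
    hA1c _ (hC'A1 ⟨c, hc, rfl⟩) _ (hK' ▸ ⟨e, hle he, rfl⟩)
  exact ((Commute.conj_iff y).mp h1).eq.symm

/-- All levels below the top have steps of index `p` and class one more than the level. -/
theorem main : ∀ (n : ℕ) (P : Type u) [Group P] [Finite P], IsPGroup p P →
    ∀ E : Subgroup P, IsSoft p E → tower E n ≠ ⊤ →
      Nat.card (tower E (n + 1)) = p * Nat.card (tower E n) ∧
        (tower E n).lowerCentralSeries (n + 1) = ⊥ := by
  intro n
  induction n using Nat.strong_induction_on with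
  | _ n IH =>
  intro P _ _ hP E hE hne
  match n, IH, hne with
  | 0, _, _ =>
    refine ⟨hE.card_normalizer, ?_⟩
    rw [Subgroup.lowerCentralSeries_succ, Subgroup.lowerCentralSeries_zero, eq_bot_iff,
      commutator_le]
    intro a ha b hb
    rw [mem_bot, commutatorElement_eq_one_iff_commute]
    exact hE.comm a ha b hb
  | 1, _, hne =>
    refine ⟨step_one hP hE hne, ?_⟩
    obtain ⟨y, -, hle, hgen, -, hcomm, -, -⟩ := level_one hP hE hne
    rw [Subgroup.lowerCentralSeries_succ, eq_bot_iff, commutator_le]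
    intro a ha b hb
    rw [mem_bot, commutatorElement_eq_one_iff_commute]
    rw [Subgroup.lowerCentralSeries_succ, Subgroup.lowerCentralSeries_zero] at ha
    exact centralizes_of_mem_inf hE hgen (hcomm ha) b hb
  | m + 2, IH, hne =>
    have hlow : ∀ j < m + 2, tower E j ≠ ⊤ := fun j hj e =>
      hne (top_le_iff.mp (e ▸ tower_mono E hj.le))
    have hs : Steps p E (m + 2) := fun j hj => (IH j hj P hP E hE (hlow j hj)).1
    have hclass := (IH (m + 1) (by omega) P hP E hE (hlow _ (by omega))).2
    obtain ⟨y, hy, hle, hgen, hmap⟩ := exists_conjugate hP hs hne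
    have hCZ := commutator_le_inf hP hE hne hs hclass hy hle
    have hne1 : tower E 1 ≠ ⊤ := hlow 1 (by omega)
    set Z := E ⊓ E.map (MulAut.conj y).toMonoidHom with hZdef
    set K := tower E (m + 2) with hKdef
    set M := tower E (m + 3) with hMdef
    have hTM : ∀ j, j ≤ m + 3 → tower E j ≤ M := fun j hj => tower_mono E hj
    have hZc : ∀ z ∈ Z, ∀ k ∈ K, Commute z k := fun z hz => centralizes_of_mem_inf hE hgen hz
    have hconjK : ∀ x ∈ M, ∀ k ∈ K, x * k * x⁻¹ ∈ K := fun x hx k hk =>
      (mem_tower_succ_iff.mp hx k).mp hk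
    let Z' : Subgroup M := Z.subgroupOf M
    haveI hZn : Z'.Normal := ⟨fun z hz x => by
      refine mem_subgroupOf.mpr (mem_inf_of_centralizes hE hle fun k hk => ?_)
      have h := hZc _ (mem_subgroupOf.mp hz) _ (hconjK (x : P)⁻¹ (inv_mem x.2) k hk)
      have := (Commute.conj_iff (x : P)).mpr h
      rwa [show (x : P) * ((x : P)⁻¹ * k * (x : P)⁻¹⁻¹) * (x : P)⁻¹ = k by group] at this⟩
    let π := QuotientGroup.mk' Z'
    have hπ : Function.Surjective π := QuotientGroup.mk'_surjective Z'
    let F : Subgroup (M ⧸ Z') := ((tower E 1).subgroupOf M).map π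
    have hcomap : ∀ j, j ≤ m + 2 → (tower F j).comap π = (tower E (j + 1)).subgroupOf M := by
      intro j
      induction j with
      | zero =>
        intro _
        show F.comap π = _
        rw [comap_map_eq_self]
        rw [QuotientGroup.ker_mk']
        exact fun z hz => le_tower E 1 (mem_inf.mp (mem_subgroupOf.mp hz)).1
      | succ j ih =>
        intro hj
        show (normalizer (tower F j : Set (M ⧸ Z'))).comap π = _
        rw [comap_normalizer_eq_of_surjective _ hπ, ih (by omega),
          ← subgroupOf_normalizer_eq (hTM (j + 1) (by omega))]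
        rfl
    have hrel : ∀ j, j ≤ m + 2 →
        Nat.card (tower F j) * Nat.card M = Nat.card (M ⧸ Z') * Nat.card (tower E (j + 1)) := by
      intro j hj
      have h1 := (tower F j).card_mul_index
      have h2 := ((tower E (j + 1)).subgroupOf M).card_mul_index
      rw [Nat.card_congr (subgroupOfEquivOfLe (hTM (j + 1) (by omega))).toEquiv, ← hcomap j hj,
        index_comap_of_surjective _ hπ] at h2
      rw [← h1, ← h2]
      ring
    have hF : IsSoft p F := by
      refine ⟨?_, ?_, ?_⟩
      · rintro _ ⟨a, ha, rfl⟩ _ ⟨b, hb, rfl⟩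
        refine commutatorElement_eq_one_iff_commute.mp ?_
        rw [← map_commutatorElement]
        refine (QuotientGroup.eq_one_iff _).mpr (mem_subgroupOf.mpr (hCZ ?_))
        exact commutator_level_one_le hP hE hne1
          (commutator_mem_commutator (mem_subgroupOf.mp ha) (mem_subgroupOf.mp hb))
      · intro q hq
        obtain ⟨x, rfl⟩ := hπ q
        refine mem_map_of_mem π (mem_subgroupOf.mpr ?_)
        refine mem_normalizer_of_commutator fun e he => ?_
        have heM : e ∈ M := le_tower E _ he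
        have h1 : π ⟨e, heM⟩ ∈ F := mem_map_of_mem π (mem_subgroupOf.mpr (le_tower E 1 he))
        have h2 : π ⁅x, (⟨e, heM⟩ : M)⁆ = 1 := by
          rw [map_commutatorElement, commutatorElement_eq_one_iff_commute]
          exact (mem_centralizer_iff.mp hq _ h1).symm
        exact (mem_inf.mp (mem_subgroupOf.mp ((QuotientGroup.eq_one_iff _).mp h2))).1
      · have e0 := hrel 0 (by omega)
        have e1 := hrel 1 (by omega)
        rw [step_one hP hE hne1] at e1
        refine Nat.eq_of_mul_eq_mul_right (Nat.card_pos (α := M)) ?_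
        show Nat.card (tower F 1) * _ = p * Nat.card (tower F 0) * _
        rw [e1, mul_assoc p, e0]
        ring
    have hQP : IsPGroup p (M ⧸ Z') := (hP.to_subgroup M).to_quotient Z'
    have hFne : tower F (m + 1) ≠ ⊤ := fun e => by
      have h := hcomap (m + 1) (by omega)
      rw [e, comap_top] at h
      exact (tower_lt_succ hP hne).not_ge (subgroupOf_eq_top.mp h.symm)
    obtain ⟨hstep, hcl⟩ := IH (m + 1) (by omega) (M ⧸ Z') hQP F hF hFne
    constructor
    · have e0 := hrel (m + 1) (by omega)
      have e1 := hrel (m + 2) (by omega)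
      rw [hstep, mul_assoc p, e0] at e1
      refine Nat.eq_of_mul_eq_mul_left (Nat.card_pos (α := M ⧸ Z')) ?_
      rw [← e1]
      ring
    · have hmapF : ((K.subgroupOf M).lowerCentralSeries (m + 2)).map π = ⊥ := by
        rw [map_lowerCentralSeries, show K.subgroupOf M = (tower F (m + 1)).comap π from
          (hcomap (m + 1) (by omega)).symm, map_comap_eq_self_of_surjective hπ, hcl]
      have hle2 : K.lowerCentralSeries (m + 2) ≤ Z := by
        have hKM : K ≤ M := hTM (m + 2) (by omega)
        rw [← map_subgroupOf_eq_of_le hKM, ← map_lowerCentralSeries]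
        rintro _ ⟨z, hz, rfl⟩
        have : π z = 1 := mem_bot.mp (hmapF ▸ mem_map_of_mem π hz)
        exact mem_subgroupOf.mp ((QuotientGroup.eq_one_iff z).mp this)
      rw [Subgroup.lowerCentralSeries_succ, eq_bot_iff, commutator_le]
      intro a ha b hb
      rw [mem_bot, commutatorElement_eq_one_iff_commute]
      exact hZc a (hle2 ha) b hb

theorem exists_tower_eq_top {P : Type u} [Group P] [Finite P] (hP : IsPGroup p P) (E : Subgroup P) :
    ∃ N, tower E N = ⊤ := by
  by_contra h
  push Not at h
  have hsm : StrictMono (tower E) := strictMono_nat_of_lt_succ fun n => tower_lt_succ hP (h n)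
  exact not_injective_infinite_finite _ hsm.injective

/-- The soft subgroup theorem. -/
theorem soft_theorem {P : Type u} [Group P] [Finite P] (hP : IsPGroup p P) {E : Subgroup P}
    (hE : IsSoft p E) :
    (∀ K L : Subgroup P, E ≤ K → E ≤ L → K ≤ L ∨ L ≤ K) ∧
      (∀ K : Subgroup P, E ≤ K → K ≠ ⊤ →
        Nat.card (normalizer (K : Set P)) = p * Nat.card K) ∧
      ∀ (i : ℕ) (K : Subgroup P), E ≤ K → K ≠ ⊤ → K.index * p ^ i = E.index →
        K.lowerCentralSeries (i + 1) = ⊥ ∧ K.lowerCentralSeries i ≠ ⊥ := by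
  classical
  have hex := exists_tower_eq_top hP E
  set N := Nat.find hex with hN
  have hbelow : ∀ j < N, tower E j ≠ ⊤ := fun j hj => Nat.find_min hex hj
  have hs : Steps p E N := fun j hj => (main j P hP E hE (hbelow j hj)).1
  have hall : ∀ K : Subgroup P, E ≤ K → ∃ j ≤ N, K = tower E j := fun K hK =>
    exists_eq_tower hP hs hK (by rw [Nat.find_spec hex]; exact le_top)
  have hlt : ∀ K : Subgroup P, E ≤ K → K ≠ ⊤ → ∃ j < N, K = tower E j := by
    intro K hK hne
    obtain ⟨j, hj, rfl⟩ := hall K hK
    exact ⟨j, lt_of_le_of_ne hj fun h => hne (h ▸ Nat.find_spec hex), rfl⟩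
  refine ⟨?_, ?_, ?_⟩
  · intro K L hK hL
    obtain ⟨i, -, rfl⟩ := hall K hK
    obtain ⟨j, -, rfl⟩ := hall L hL
    exact (le_total i j).imp (fun h => tower_mono E h) (fun h => tower_mono E h)
  · intro K hK hne
    obtain ⟨j, hj, rfl⟩ := hlt K hK hne
    exact hs j hj
  · intro i K hK hne hidx
    obtain ⟨j, hj, rfl⟩ := hlt K hK hne
    have hcard : ∀ l ≤ N, Nat.card (tower E l) = p ^ l * Nat.card E := by
      intro l hl
      induction l with
      | zero => rw [pow_zero, one_mul]; rfl
      | succ l ih => rw [hs l (by omega), ih (by omega), pow_succ']; ring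
    have hij : i = j := by
      have h1 := (tower E j).card_mul_index
      rw [hcard j hj.le, ← E.card_mul_index, ← hidx, mul_comm (p ^ j), mul_assoc,
        Nat.mul_left_cancel_iff Nat.card_pos, mul_comm,
        Nat.mul_left_cancel_iff (Nat.pos_of_ne_zero (tower E j).index_ne_zero_of_finite)] at h1
      exact (Nat.pow_right_injective hp.out.two_le h1).symm
    subst hij
    exact ⟨(main i P hP E hE hne).2,
      lower_ne_bot hP hE (Or.inl hne) (E_ne_bot hE hne)⟩

end Main

end CfsgLib.Soft
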