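import Mathlib

/-!
Soft subgroups (Héthelyi): abelian self-centralizing subgroups of index `p` in their normalizer.
The normalizer tower has all steps of index `p` and the classes grow by one.
-/

set_option autoImplicit false

namespace CfsgLib.Soft

open scoped commutatorElement
open Subgroup

universe u

variable {P : Type u} [Group P]

/-- An abelian self-centralizing subgroup of index `p` in its normalizer. -/
structure IsSoft (p : ℕ) (E : Subgroup P) : Prop where
  comm : ∀ a ∈ E, ∀ b ∈ E, Commute a b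
  cent : centralizer (E : Set P) ≤ E
  card_normalizer : Nat.card (normalizer (E : Set P)) = p * Nat.card E

/-- The normalizer tower. -/
def tower (E : Subgroup P) : ℕ → Subgroup P
  | 0 => E
  | n + 1 => normalizer (tower E n : Set P)

variable {p : ℕ} {E : Subgroup P}

theorem tower_le_succ (E : Subgroup P) (n : ℕ) : tower E n ≤ tower E (n + 1) := le_normalizer

theorem tower_mono (E : Subgroup P) : Monotone (tower E) := monotone_nat_of_le_succ (tower_le_succ E)

theorem le_tower (E : Subgroup P) (n : ℕ) : E ≤ tower E n := tower_mono E (Nat.zero_le n)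

theorem mem_tower_succ_iff {x : P} {n : ℕ} :
    x ∈ tower E (n + 1) ↔ ∀ y, y ∈ tower E n ↔ x * y * x⁻¹ ∈ tower E n := mem_normalizer_iff

theorem mem_normalizer_of_commutator [Finite P] {H : Subgroup P} {x : P}
    (h : ∀ y ∈ H, ⁅x, y⁆ ∈ H) : x ∈ normalizer (H : Set P) := by
  rw [mem_normalizer_iff]
  intro y
  have hfwd : ∀ y ∈ H, x * y * x⁻¹ ∈ H := fun y hy => by
    have := mul_mem (h y hy) hy
    rwa [commutatorElement_def, inv_mul_cancel_right] at this
  refine ⟨hfwd y, fun hy => ?_⟩
  have hinj : Set.InjOn (fun z => x * z * x⁻¹) (H : Set P) := fun u _ v _ e =>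
    mul_left_cancel (mul_right_cancel e)
  obtain ⟨z, hz, hze⟩ := (((Set.toFinite (H : Set P)).injOn_iff_bijOn_of_mapsTo hfwd).mp hinj).surjOn hy
  rwa [← mul_left_cancel (mul_right_cancel hze)]

theorem commutator_le_of_closure {S T : Set P} {C : Subgroup P} {K : Subgroup P}
    (hC : ∀ c ∈ C, ∀ k ∈ K, k * c * k⁻¹ ∈ C) (hS : S ⊆ K) (hT : T ⊆ K)
    (h : ∀ s ∈ S, ∀ t ∈ T, ⁅s, t⁆ ∈ C) :
    ∀ s ∈ closure S, ∀ t ∈ closure T, ⁅s, t⁆ ∈ C := by
  have hSK : closure S ≤ K := (closure_le K).mpr hS
  have hTK : closure T ≤ K := (closure_le K).mpr hT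
  have step : ∀ s ∈ S, ∀ t ∈ closure T, ⁅s, t⁆ ∈ C := by
    intro s hs t ht
    induction ht using closure_induction with
    | mem t ht => exact h s hs t ht
    | one => rw [commutatorElement_one_right]; exact one_mem _
    | mul t u ht _ iht ihu =>
      rw [show ⁅s, t * u⁆ = ⁅s, t⁆ * (t * ⁅s, u⁆ * t⁻¹) by simp only [commutatorElement_def]; group]
      exact mul_mem iht (hC _ ihu t (hTK ht))
    | inv t ht iht =>
      rw [show ⁅s, t⁻¹⁆ = t⁻¹ * ⁅s, t⁆⁻¹ * t⁻¹⁻¹ by simp only [commutatorElement_def]; group]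
      exact hC _ (inv_mem iht) _ (inv_mem (hTK ht))
  intro s hs t ht
  induction hs using closure_induction with
  | mem s hs => exact step s hs t ht
  | one => rw [commutatorElement_one_left]; exact one_mem _
  | mul s u hs _ ihs ihu =>
    rw [show ⁅s * u, t⁆ = (s * ⁅u, t⁆ * s⁻¹) * ⁅s, t⁆ by simp only [commutatorElement_def]; group]
    exact mul_mem (hC _ ihu s (hSK hs)) ihs
  | inv s hs ihs =>
    rw [show ⁅s⁻¹, t⁆ = s⁻¹ * ⁅s, t⁆⁻¹ * s⁻¹⁻¹ by simp only [commutatorElement_def]; group]
    exact hC _ (inv_mem ihs) _ (inv_mem (hSK hs))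

theorem tower_map {Q : Type*} [Group Q] (f : P ≃* Q) (E : Subgroup P) :
    ∀ n, tower (E.map f.toMonoidHom) n = (tower E n).map f.toMonoidHom
  | 0 => rfl
  | n + 1 => by
    show normalizer (tower (E.map f.toMonoidHom) n : Set Q) = _
    rw [tower_map f E n, ← map_equiv_normalizer_eq]
    rfl

theorem IsSoft.map {Q : Type*} [Group Q] (hE : IsSoft p E) (f : P ≃* Q) :
    IsSoft p (E.map f.toMonoidHom) := by
  refine ⟨?_, ?_, ?_⟩
  · rintro _ ⟨a, ha, rfl⟩ _ ⟨b, hb, rfl⟩
    exact (hE.comm a ha b hb).map f.toMonoidHom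
  · intro x hx
    refine ⟨f.symm x, hE.cent (mem_centralizer_iff.mpr fun a ha => f.injective ?_),
      f.apply_symm_apply x⟩
    rw [map_mul, map_mul, f.apply_symm_apply]
    exact mem_centralizer_iff.mp hx (f a) ⟨a, ha, rfl⟩
  · have h := tower_map f E 1
    show Nat.card (tower (E.map f.toMonoidHom) 1) = _
    rw [h, card_map_of_injective f.injective, card_map_of_injective f.injective]
    exact hE.card_normalizer

/-- All steps below `n` have index `p`. -/
def Steps (p : ℕ) (E : Subgroup P) (n : ℕ) : Prop :=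
  ∀ j < n, Nat.card (tower E (j + 1)) = p * Nat.card (tower E j)

theorem card_mul_relIndex {H K : Subgroup P} (h : H ≤ K) :
    Nat.card H * H.relIndex K = Nat.card K := by
  have := relIndex_mul_relIndex ⊥ H K bot_le h
  rwa [relIndex_bot_left, relIndex_bot_left] at this

theorem eq_of_le_card [Finite P] {H K : Subgroup P} (h : H ≤ K) (hc : Nat.card K ≤ Nat.card H) :
    H = K := SetLike.coe_injective (Set.eq_of_subset_of_ncard_le h
      (by rwa [← Nat.card_coe_set_eq, ← Nat.card_coe_set_eq]) (Set.toFinite _))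

section PGroup

variable [Finite P] [hp : Fact p.Prime] (hP : IsPGroup p P)

include hP

/-- An overgroup of the bottom is a member of the tower or contains the top. -/
theorem eq_tower_or_le {n : ℕ} (hs : Steps p E n) {L : Subgroup P} (hL : E ≤ L) :
    (∃ j ≤ n, L = tower E j) ∨ tower E n ≤ L := by
  induction n with
  | zero => exact Or.inr hL
  | succ n ih =>
    rcases ih (fun j hj => hs j (by omega)) with ⟨j, hj, h⟩ | h
    · exact Or.inl ⟨j, by omega, h⟩
    by_cases heq : L = tower E n
    · exact Or.inl ⟨n, by omega, heq⟩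
    right
    haveI : Group.IsNilpotent L := (hP.to_subgroup L).isNilpotent
    have hlt : (tower E n).subgroupOf L < ⊤ :=
      lt_top_iff_ne_top.mpr fun e => heq (le_antisymm (subgroupOf_eq_top.mp e) h)
    obtain ⟨⟨x, hxL⟩, hx, hxn⟩ := SetLike.exists_of_lt
      (Group.normalizerCondition_of_isNilpotent _ hlt)
    have hxN : x ∈ tower E (n + 1) := by
      rw [← subgroupOf_normalizer_eq h] at hx
      exact hx
    have hlt2 : tower E n < tower E (n + 1) ⊓ L :=
      lt_of_le_of_ne (le_inf (tower_le_succ E n) h) fun e => hxn (show x ∈ tower E n from e ▸ ⟨hxN, hxL⟩)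
    have hcard := card_mul_relIndex hlt2.le
    have hd : (tower E n).relIndex (tower E (n + 1) ⊓ L) ∣ p := by
      have h1 := relIndex_dvd_of_le_left (K := tower E n) (tower E (n + 1)) (le_refl (tower E n))
      have h2 := card_mul_relIndex (tower_le_succ E n)
      rw [hs n (by omega), mul_comm p, Nat.mul_left_cancel_iff Nat.card_pos] at h2
      have h3 := relIndex_mul_relIndex (tower E n) (tower E (n + 1) ⊓ L) (tower E (n + 1)) hlt2.le
        inf_le_left
      rw [h2] at h3
      exact Dvd.intro _ h3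
    rcases (Nat.dvd_prime hp.out).mp hd with h1 | h1
    · exact absurd (relIndex_eq_one.mp h1) (not_le_of_gt hlt2)
    · have : tower E (n + 1) ⊓ L = tower E (n + 1) := eq_of_le_card inf_le_left (by
        rw [← hcard, h1, hs n (by omega), mul_comm])
      exact inf_eq_left.mp this

theorem exists_eq_tower {n : ℕ} (hs : Steps p E n) {L : Subgroup P} (hL : E ≤ L)
    (hLn : L ≤ tower E n) : ∃ j ≤ n, L = tower E j := by
  rcases eq_tower_or_le hP hs hL with h | h
  · exact h
  · exact ⟨n, le_rfl, le_antisymm hLn h⟩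

theorem tower_lt_succ {n : ℕ} (h : tower E n ≠ ⊤) : tower E n < tower E (n + 1) := by
  haveI : Group.IsNilpotent P := hP.isNilpotent
  exact Group.normalizerCondition_of_isNilpotent _ (lt_top_iff_ne_top.mpr h)

/-- A conjugate moved by the step above generates with the bottom. -/
theorem exists_conjugate {n : ℕ} (hs : Steps p E n) (hn : tower E n ≠ ⊤) :
    ∃ y ∈ tower E (n + 1),
      E.map (MulAut.conj y).toMonoidHom ≤ tower E n ∧
      E ⊔ E.map (MulAut.conj y).toMonoidHom = tower E n ∧
      (tower E n).map (MulAut.conj y).toMonoidHom = tower E n := by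
  obtain ⟨y, hy, hyn⟩ := SetLike.exists_of_lt (tower_lt_succ hP hn)
  have hmap : (tower E n).map (MulAut.conj y).toMonoidHom = tower E n := by
    ext z
    constructor
    · rintro ⟨w, hw, rfl⟩
      exact (mem_tower_succ_iff.mp hy w).mp hw
    · intro hz
      refine ⟨y⁻¹ * z * y, (mem_tower_succ_iff.mp hy _).mpr ?_, ?_⟩
      · rwa [show y * (y⁻¹ * z * y) * y⁻¹ = z by group]
      · show y * (y⁻¹ * z * y) * y⁻¹ = z
        group
  have hle : E.map (MulAut.conj y).toMonoidHom ≤ tower E n :=
    hmap ▸ map_mono (le_tower E n)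
  refine ⟨y, hy, hle, ?_, hmap⟩
  obtain ⟨j, hj, hjeq⟩ := exists_eq_tower hP hs le_sup_left (sup_le (le_tower E n) hle)
  rcases hj.lt_or_eq with hj' | rfl
  · exfalso
    obtain ⟨m, rfl⟩ : ∃ m, n = m + 1 := ⟨n - 1, by omega⟩
    have hsub : E.map (MulAut.conj y).toMonoidHom ≤ tower E m :=
      (le_sup_right.trans hjeq.le).trans (tower_mono E (by omega))
    have hE' : E ≤ (tower E m).map (MulAut.conj y⁻¹).toMonoidHom := by
      intro e he
      refine ⟨y * e * y⁻¹, hsub ⟨e, he, rfl⟩, ?_⟩
      show y⁻¹ * (y * e * y⁻¹) * y⁻¹⁻¹ = e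
      group
    have hup : (tower E m).map (MulAut.conj y⁻¹).toMonoidHom ≤ tower E (m + 1) := by
      rintro _ ⟨w, hw, rfl⟩
      have hw' := tower_le_succ E m hw
      exact (mem_tower_succ_iff.mp (inv_mem hy) w).mp hw'
    obtain ⟨i, hi, hieq⟩ := exists_eq_tower hP hs hE' hup
    have hc : Nat.card (tower E i) = Nat.card (tower E m) := by
      rw [← hieq, card_map_of_injective (MulAut.conj y⁻¹).injective]
    have hfix : (tower E m).map (MulAut.conj y⁻¹).toMonoidHom = tower E m := by
      rw [hieq]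
      rcases le_total i m with h | h
      · exact eq_of_le_card (tower_mono E h) hc.ge
      · exact (eq_of_le_card (tower_mono E h) hc.le).symm
    refine hyn (inv_mem_iff.mp ?_)
    show y⁻¹ ∈ normalizer (tower E m : Set P)
    refine mem_normalizer_of_commutator fun w hw => ?_
    rw [commutatorElement_def]
    exact mul_mem (hfix ▸ ⟨w, hw, rfl⟩) (inv_mem hw)
  · exact hjeq

omit hP hp in
theorem mem_inf_of_centralizes (hE : IsSoft p E) {y x : P} {n : ℕ}
    (hle : E.map (MulAut.conj y).toMonoidHom ≤ tower E n)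
    (hx : ∀ k ∈ tower E n, Commute x k) :
    x ∈ E ⊓ E.map (MulAut.conj y).toMonoidHom := by
  refine ⟨hE.cent (mem_centralizer_iff.mpr fun k hk => (hx k (le_tower E n hk)).eq.symm), ?_⟩
  refine (hE.map (MulAut.conj y)).cent (mem_centralizer_iff.mpr fun k hk => ?_)
  exact (hx k (hle hk)).eq.symm

omit hP hp in
theorem centralizes_of_mem_inf (hE : IsSoft p E) {y x : P} {n : ℕ}
    (hgen : E ⊔ E.map (MulAut.conj y).toMonoidHom = tower E n)
    (hx : x ∈ E ⊓ E.map (MulAut.conj y).toMonoidHom) : ∀ k ∈ tower E n, Commute x k := by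
  intro k hk
  rw [← hgen] at hk
  have : E ⊔ E.map (MulAut.conj y).toMonoidHom ≤ centralizer {x} := sup_le
    (fun e he => mem_centralizer_singleton_iff.mpr (hE.comm e he x hx.1).eq)
    (fun e he => mem_centralizer_singleton_iff.mpr ((hE.map (MulAut.conj y)).comm e he x hx.2).eq)
  exact (mem_centralizer_singleton_iff.mp (this hk)).symm

theorem lt_of_commutator {A K : Subgroup P} (hA : A ≠ ⊥) (hAK : A ≤ K) (hle : ⁅A, K⁆ ≤ A) :
    ⁅A, K⁆ < A := by
  refine lt_of_le_of_ne hle fun h => hA ?_
  haveI : Group.IsNilpotent K := (hP.to_subgroup K).isNilpotent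
  obtain ⟨m, hm⟩ := (isNilpotent_iff_lowerCentralSeries K).mp ‹Group.IsNilpotent K›
  have : ∀ i, A ≤ K.lowerCentralSeries i := by
    intro i
    induction i with
    | zero => exact hAK
    | succ i ih => rw [Subgroup.lowerCentralSeries_succ, ← h]; exact commutator_mono ih le_rfl
  exact le_bot_iff.mp (hm ▸ this m)

theorem lower_ne_bot (hE : IsSoft p E) : ∀ {n : ℕ}, tower E n ≠ ⊤ ∨ n = 0 → E ≠ ⊥ →
    (tower E n).lowerCentralSeries n ≠ ⊥ := by
  intro n hn hEne h
  rcases Nat.eq_zero_or_pos n with rfl | hpos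
  · exact hEne h
  have hne : tower E n ≠ ⊤ := hn.resolve_right (by omega)
  have key : ∀ j, j + 1 ≤ n → (tower E n).lowerCentralSeries (n - (j + 1)) ≤ tower E j := by
    intro j hj
    induction j with
    | zero =>
      intro x hx
      refine hE.cent (mem_centralizer_iff.mpr fun e he => ?_)
      have hm := commutator_mem_commutator hx (le_tower E n he)
      rw [← Subgroup.lowerCentralSeries_succ, show n - (0 + 1) + 1 = n by omega] at hm
      rw [h, mem_bot, commutatorElement_eq_one_iff_commute] at hm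
      exact hm.eq.symm
    | succ j ih =>
      intro x hx
      refine mem_normalizer_of_commutator fun w hw => ih (by omega) ?_
      have hm := commutator_mem_commutator hx (tower_mono E (show j ≤ n by omega) hw)
      rwa [← Subgroup.lowerCentralSeries_succ,
        show n - (j + 1 + 1) + 1 = n - (j + 1) by omega] at hm
  have := key (n - 1) (by omega)
  rw [show n - (n - 1 + 1) = 0 by omega, Subgroup.lowerCentralSeries_zero] at this
  have htop : tower E (n - 1) ≠ ⊤ := fun e =>
    hne (top_le_iff.mp (e ▸ tower_mono E (Nat.sub_le n 1)))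
  have hlt := tower_lt_succ hP htop
  rw [show n - 1 + 1 = n by omega] at hlt
  exact absurd this (not_le_of_gt hlt)

/-- The first level. -/
theorem level_one (hE : IsSoft p E) (h1 : tower E 1 ≠ ⊤) :
    ∃ y ∈ tower E 2,
      E.map (MulAut.conj y).toMonoidHom ≤ tower E 1 ∧
      E ⊔ E.map (MulAut.conj y).toMonoidHom = tower E 1 ∧
      p * Nat.card (E ⊓ E.map (MulAut.conj y).toMonoidHom : Subgroup P) = Nat.card E ∧
      ⁅tower E 1, tower E 1⁆ ≤ E ⊓ E.map (MulAut.conj y).toMonoidHom ∧
      ⁅E, tower E 1⁆ ≠ ⊥ ∧ Nat.card (⁅E, tower E 1⁆ : Subgroup P) = p := by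
  have hs : Steps p E 1 := fun j hj => by
    obtain rfl : j = 0 := by omega
    exact hE.card_normalizer
  obtain ⟨y, hy, hle, hgen, hmap⟩ := exists_conjugate hP hs h1
  set E' := E.map (MulAut.conj y).toMonoidHom with hE'
  refine ⟨y, hy, hle, hgen, ?_⟩
  have hsE' : IsSoft p E' := hE.map (MulAut.conj y)
  have hE'card : Nat.card E' = Nat.card E := card_map_of_injective (MulAut.conj y).injective
  have hne : ¬ E' ≤ E := fun h => by
    rw [sup_eq_left.mpr h] at hgen
    exact (tower_lt_succ hP (n := 0) fun e =>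
      h1 (top_le_iff.mp (e ▸ tower_le_succ E 0))).ne hgen
  have hrel : E.relIndex (tower E 1) = p := by
    have := card_mul_relIndex (le_tower E 1)
    rw [show Nat.card (tower E 1) = p * Nat.card E from hE.card_normalizer, mul_comm p,
      Nat.mul_left_cancel_iff Nat.card_pos] at this
    exact this
  have hrel' : E.relIndex E' = p := by
    have hle' : E.relIndex E' ≤ p := hrel ▸ relIndex_le_of_le_right hle (by rw [hrel]; exact hp.out.pos.ne')
    have hc := card_mul_relIndex (H := E ⊓ E') (K := E') inf_le_right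
    rw [inf_relIndex_right] at hc
    obtain ⟨k, hk⟩ := (hP.to_subgroup E').exists_card_eq
    obtain ⟨i, -, hi⟩ := (Nat.dvd_prime_pow hp.out).mp (hk ▸ Dvd.intro_left _ hc)
    rcases i with _ | _ | i
    · exact absurd (relIndex_eq_one.mp (by rw [hi, pow_zero])) hne
    · rw [hi, pow_one]
    · exfalso
      have : p ^ 2 ≤ p := (Nat.pow_le_pow_right hp.out.pos (by omega)).trans (hi ▸ hle')
      nlinarith [hp.out.two_le]
  have hZcard : p * Nat.card (E ⊓ E' : Subgroup P) = Nat.card E := by
    have hc := card_mul_relIndex (H := E ⊓ E') (K := E') inf_le_right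
    rw [inf_relIndex_right, hrel', hE'card] at hc
    rw [mul_comm, hc]
  set Z := E ⊓ E' with hZ
  have hT : ∀ t ∈ tower E 1, ∀ e ∈ E, t * e * t⁻¹ ∈ E := fun t ht e he =>
    (mem_tower_succ_iff.mp ht e).mp he
  have hT' : ∀ t ∈ tower E 1, ∀ e ∈ E', t * e * t⁻¹ ∈ E' := by
    intro t ht e he
    rw [← hmap] at ht
    obtain ⟨t₀, ht₀, rfl⟩ := ht
    obtain ⟨e₀, he₀, rfl⟩ := he
    refine ⟨t₀ * e₀ * t₀⁻¹, hT t₀ ht₀ e₀ he₀, ?_⟩
    simp only [map_mul, map_inv]
  have hbr : ∀ e ∈ E, ∀ a ∈ E', ⁅e, a⁆ ∈ Z := by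
    intro e he a ha
    rw [commutatorElement_def]
    refine mem_inf.mpr ⟨?_, Subgroup.mul_mem _ (hT' e (le_tower E 1 he) a ha) (Subgroup.inv_mem _ ha)⟩
    rw [mul_assoc e, mul_assoc e]
    exact mul_mem he (hT a (hle ha) _ (inv_mem he))
  have hZc : ∀ z ∈ Z, ∀ k ∈ tower E 1, k * z * k⁻¹ ∈ Z := fun z hz k hk => by
    rw [← (centralizes_of_mem_inf hE hgen hz k hk).eq, mul_inv_cancel_right]
    exact hz
  have hclo : closure ((E : Set P) ∪ E') = tower E 1 := by
    rw [Subgroup.closure_union, closure_eq, closure_eq, hgen]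
  have hsub : ((E : Set P) ∪ E') ⊆ tower E 1 := Set.union_subset (le_tower E 1) hle
  have hcomm : ⁅tower E 1, tower E 1⁆ ≤ Z := by
    rw [commutator_le]
    intro g₁ hg₁ g₂ hg₂
    rw [← hclo] at hg₁ hg₂
    refine commutator_le_of_closure hZc hsub hsub ?_ g₁ hg₁ g₂ hg₂
    rintro s (hs | hs) t (ht | ht)
    · rw [commutatorElement_eq_one_iff_commute.mpr (hE.comm s hs t ht)]; exact one_mem _
    · exact hbr s hs t ht
    · rw [← commutatorElement_inv]; exact inv_mem (hbr t ht s hs)
    · rw [commutatorElement_eq_one_iff_commute.mpr (hsE'.comm s hs t ht)]; exact one_mem _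
  refine ⟨hZcard, hcomm, ?_⟩
  obtain ⟨a, ha, haE⟩ := SetLike.not_le_iff_exists.mp hne
  obtain ⟨e₀, he₀, hna⟩ : ∃ e ∈ E, ¬ Commute e a := by
    by_contra h
    push Not at h
    exact haE (hE.cent (mem_centralizer_iff.mpr fun e he => (h e he).eq))
  have hne' : ⁅E, tower E 1⁆ ≠ ⊥ := fun h => hna (commutatorElement_eq_one_iff_commute.mp
    (mem_bot.mp (h ▸ commutator_mem_commutator he₀ (hle ha))))
  refine ⟨hne', ?_⟩
  have hZcomm : ∀ z ∈ Z, ∀ k ∈ tower E 1, Commute z k := fun z hz k hk =>
    centralizes_of_mem_inf hE hgen hz k hk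
  let φ : E →* P :=
    { toFun := fun e => ⁅(e : P), a⁆
      map_one' := commutatorElement_one_left a
      map_mul' := fun e f => by
        have hcm : Commute ⁅(f : P), a⁆ e := hZcomm _ (hbr f f.2 a ha) _ (le_tower E 1 e.2)
        have h1 : ⁅((e * f : E) : P), a⁆ = ((e : P) * ⁅(f : P), a⁆ * (e : P)⁻¹) * ⁅(e : P), a⁆ := by
          simp only [commutatorElement_def, Subgroup.coe_mul]
          group
        rw [h1, ← hcm.eq, mul_inv_cancel_right]
        exact (hZcomm _ (hbr f f.2 a ha) _ (tower_le_succ E 0 (hbr e e.2 a ha).1)).eq }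
  have hker : Z.subgroupOf E ≤ φ.ker := fun z hz =>
    commutatorElement_eq_one_iff_commute.mpr (hZcomm z hz a (hle ha))
  have hZidx : (Z.subgroupOf E).index = p := by
    have := card_mul_relIndex (H := Z) (K := E) inf_le_left
    rw [← hZcard, mul_comm p, Nat.mul_left_cancel_iff Nat.card_pos] at this
    exact this
  have hrangecard : Nat.card φ.range = p := by
    have hd : Nat.card φ.range ∣ p := by
      rw [← index_ker, ← hZidx]
      exact index_dvd_of_le hker
    rcases (Nat.dvd_prime hp.out).mp hd with h | h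
    · exfalso
      have hm : φ ⟨e₀, he₀⟩ ∈ φ.range := ⟨_, rfl⟩
      rw [eq_bot_of_card_eq _ h, mem_bot] at hm
      exact hna (commutatorElement_eq_one_iff_commute.mp hm)
    · exact h
  have hrange : φ.range = ⁅E, tower E 1⁆ := by
    refine le_antisymm ?_ ?_
    · rintro _ ⟨e, rfl⟩
      exact commutator_mem_commutator e.2 (hle ha)
    · have hEa : closure ((E : Set P) ∪ {a}) = tower E 1 := by
        obtain ⟨j, hj, hjeq⟩ := exists_eq_tower hP hs
          (L := closure ((E : Set P) ∪ {a}))
          (fun e he => subset_closure (Or.inl he))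
          ((closure_le _).mpr (Set.union_subset (le_tower E 1) (by simpa using hle ha)))
        rcases hj.lt_or_eq with hj' | rfl
        · obtain rfl : j = 0 := by omega
          exact absurd (show a ∈ tower E 0 from hjeq ▸ subset_closure (Or.inr rfl)) haE
        · exact hjeq
      rw [commutator_le]
      intro g₁ hg₁ g₂ hg₂
      rw [← hEa] at hg₂
      rw [← closure_eq E] at hg₁
      refine commutator_le_of_closure (S := (E : Set P)) ?_ (fun e he => le_tower E 1 he)
        (Set.union_subset (le_tower E 1) (by simpa using hle ha)) ?_ g₁ hg₁ g₂ hg₂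
      · rintro _ ⟨e, rfl⟩ k hk
        show k * ⁅(e : P), a⁆ * k⁻¹ ∈ φ.range
        rw [← (hZcomm _ (hbr e e.2 a ha) k hk).eq, mul_inv_cancel_right]
        exact ⟨e, rfl⟩
      · rintro s hs t (ht | rfl)
        · rw [commutatorElement_eq_one_iff_commute.mpr (hE.comm s hs t ht)]; exact one_mem _
        · exact ⟨⟨s, hs⟩, rfl⟩
  rw [← hrange, hrangecard]

/-- The step above the first level has index `p`. -/
theorem step_one (hE : IsSoft p E) (h1 : tower E 1 ≠ ⊤) :
    Nat.card (tower E 2) = p * Nat.card (tower E 1) := by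
  classical
  obtain ⟨y, hy, hle, hgen, hZcard, -, -, -⟩ := level_one hP hE h1
  set Z := E ⊓ E.map (MulAut.conj y).toMonoidHom with hZdef
  have hmapT : ∀ x ∈ tower E 2, ∀ t ∈ tower E 1, x * t * x⁻¹ ∈ tower E 1 := fun x hx t ht =>
    (mem_tower_succ_iff.mp hx t).mp ht
  have hZconj : ∀ x ∈ tower E 2, ∀ z ∈ Z, x * z * x⁻¹ ∈ Z := by
    intro x hx z hz
    refine mem_inf_of_centralizes hE hle fun k hk => ?_
    have h := centralizes_of_mem_inf hE hgen hz _ (hmapT x⁻¹ (inv_mem hx) k hk)
    have := (Commute.conj_iff x).mpr h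
    rwa [show x * (x⁻¹ * k * x⁻¹⁻¹) * x⁻¹ = k by group] at this
  have hs : Steps p E 1 := fun j hj => by
    obtain rfl : j = 0 := by omega
    exact hE.card_normalizer
  -- the conjugates of the bottom under the second level
  let T2 := tower E 2
  let S := (tower E 1).subgroupOf T2
  let conjE : T2 ⧸ S → Subgroup P := fun q => E.map (MulAut.conj (q.out : P)).toMonoidHom
  have hmapmem : ∀ x ∈ T2, E.map (MulAut.conj x).toMonoidHom ≤ tower E 1 := by
    rintro x hx _ ⟨e, he, rfl⟩
    exact hmapT x hx e (le_tower E 1 he)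
  have hinj : Function.Injective conjE := by
    intro q r h
    rw [← QuotientGroup.out_eq' q, ← QuotientGroup.out_eq' r, QuotientGroup.eq]
    show ((q.out : P))⁻¹ * (r.out : P) ∈ normalizer (E : Set P)
    refine mem_normalizer_of_commutator fun e he => ?_
    rw [commutatorElement_def]
    refine mul_mem ?_ (inv_mem he)
    have hm : (r.out : P) * e * (r.out : P)⁻¹ ∈ conjE q := h ▸ ⟨e, he, rfl⟩
    obtain ⟨e', he', hee⟩ := hm
    have hee' : (q.out : P) * e' * (q.out : P)⁻¹ = (r.out : P) * e * (r.out : P)⁻¹ := hee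
    rw [show ((q.out : P))⁻¹ * (r.out : P) * e * (((q.out : P))⁻¹ * (r.out : P))⁻¹ =
      ((q.out : P))⁻¹ * ((r.out : P) * e * (r.out : P)⁻¹) * (q.out : P) by group, ← hee']
    rw [show ((q.out : P))⁻¹ * ((q.out : P) * e' * (q.out : P)⁻¹) * (q.out : P) = e' by group]
    exact he'
  have hZle : ∀ q, Z ≤ conjE q := by
    intro q z hz
    refine ⟨((q.out : P))⁻¹ * z * (q.out : P), ?_, ?_⟩
    · have := hZconj _ (inv_mem q.out.2) z hz
      rw [inv_inv] at this
      exact this.1
    · show (q.out : P) * (((q.out : P))⁻¹ * z * (q.out : P)) * (q.out : P)⁻¹ = z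
      group
  have hdisj : ∀ q r, q ≠ r → conjE q ⊓ conjE r ≤ Z := by
    intro q r hqr x hx
    have hne : ¬ conjE r ≤ conjE q := fun h => hqr (hinj (eq_of_le_card h (by
      rw [card_map_of_injective (MulAut.conj _).injective,
        card_map_of_injective (MulAut.conj _).injective])).symm)
    have hcq : Nat.card (conjE q) = Nat.card E :=
      card_map_of_injective (MulAut.conj _).injective
    -- the two conjugates generate the first level
    have hsup : conjE q ⊔ conjE r = tower E 1 := by
      have hle2 : conjE q ⊔ conjE r ≤ tower E 1 := sup_le (hmapmem _ q.out.2) (hmapmem _ r.out.2)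
      refine eq_of_le_card hle2 ?_
      have hd := card_dvd_of_le (H := conjE q) (K := conjE q ⊔ conjE r) le_sup_left
      have hd2 := card_dvd_of_le hle2
      rw [show Nat.card (tower E 1) = p * Nat.card E from hE.card_normalizer] at hd2 ⊢
      rw [hcq] at hd
      obtain ⟨k, hk⟩ := hd
      rw [hk, mul_comm p, Nat.mul_dvd_mul_iff_left Nat.card_pos] at hd2
      rcases (Nat.dvd_prime hp.out).mp hd2 with h | h
      · exfalso
        rw [h, mul_one] at hk
        exact hne (le_sup_right.trans (eq_of_le_card le_sup_left (by rw [hk, hcq])).ge)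
      · rw [hk, h, mul_comm]
    refine mem_inf_of_centralizes hE hle fun k hk => ?_
    rw [← hsup] at hk
    have hcomm : ∀ s, conjE s ≤ tower E 1 → x ∈ conjE s → conjE s ≤ centralizer {x} :=
      fun s _ hxs w hw => mem_centralizer_singleton_iff.mpr
        (((hE.map (MulAut.conj (s.out : P))).comm w hw x hxs).eq)
    exact (mem_centralizer_singleton_iff.mp
      (sup_le (hcomm q (hmapmem _ q.out.2) hx.1) (hcomm r (hmapmem _ r.out.2) hx.2) hk)).symm
  -- count
  haveI : Fintype (T2 ⧸ S) := Fintype.ofFinite _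
  let F : (Σ q : T2 ⧸ S, ((conjE q : Set P) \ (Z : Set P) : Set P)) →
      ((tower E 1 : Set P) \ (Z : Set P) : Set P) :=
    fun s => ⟨s.2, hmapmem _ s.1.out.2 s.2.2.1, s.2.2.2⟩
  have hFinj : Function.Injective F := by
    rintro ⟨q, x, hx⟩ ⟨r, z, hz⟩ h
    obtain rfl : x = z := congrArg Subtype.val h
    by_cases hqr : q = r
    · subst hqr; rfl
    · exact absurd (hdisj q r hqr ⟨hx.1, hz.1⟩) hx.2
  have hcount := Nat.card_le_card_of_injective F hFinj
  rw [Nat.card_sigma] at hcount
  have hZT : (Z : Set P) ⊆ tower E 1 := fun z hz => le_tower E 1 hz.1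
  have hdiff : ∀ H : Subgroup P, (Z : Set P) ⊆ H →
      Nat.card ((H : Set P) \ (Z : Set P) : Set P) = Nat.card H - Nat.card Z := by
    intro H hH
    rw [Nat.card_coe_set_eq, Set.ncard_sdiff hH, ← Nat.card_coe_set_eq, ← Nat.card_coe_set_eq]
    rfl
  rw [Finset.sum_congr rfl (fun q _ => hdiff (conjE q) (hZle q)), hdiff _ hZT] at hcount
  have hcE : ∀ q, Nat.card (conjE q) = Nat.card E := fun q =>
    card_map_of_injective (MulAut.conj _).injective
  simp only [hcE, Finset.sum_const, Finset.card_univ, smul_eq_mul] at hcount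
  rw [show Nat.card (tower E 1) = p * Nat.card E from hE.card_normalizer, ← hZcard,
    ← Nat.card_eq_fintype_card] at hcount
  have hidx : Nat.card (tower E 1) * Nat.card (T2 ⧸ S) = Nat.card T2 :=
    card_mul_relIndex (tower_le_succ E 1)
  obtain ⟨k, hk⟩ := (hP.to_subgroup T2).exists_card_eq
  obtain ⟨i, -, hi⟩ := (Nat.dvd_prime_pow hp.out).mp (hk ▸ Dvd.intro_left _ hidx)
  rcases i with _ | _ | i
  · exfalso
    rw [hi, pow_zero, mul_one] at hidx
    exact (tower_lt_succ hP h1).ne (eq_of_le_card (tower_le_succ E 1) hidx.ge)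
  · rw [← hidx, hi, pow_one, mul_comm]
  · exfalso
    rw [hi] at hcount
    have h2 : p ^ 2 ≤ p ^ (i + 1 + 1) := Nat.pow_le_pow_right hp.out.pos (by omega)
    have hz : 0 < Nat.card Z := Nat.card_pos
    have e1 : p * Nat.card Z - Nat.card Z = (p - 1) * Nat.card Z := by rw [Nat.sub_mul, one_mul]
    have e2 : p * (p * Nat.card Z) - Nat.card Z = (p * p - 1) * Nat.card Z := by
      rw [Nat.sub_mul, one_mul, mul_assoc]
    rw [e1, e2, ← mul_assoc] at hcount
    have h3 : p ^ (i + 1 + 1) * (p - 1) ≤ p * p - 1 := Nat.le_of_mul_le_mul_right hcount hz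
    have h4 : p ^ 2 * (p - 1) ≤ p * p - 1 := (Nat.mul_le_mul_right _ h2).trans h3
    obtain ⟨q, hq⟩ : ∃ q, p = q + 2 := ⟨p - 2, by have := hp.out.two_le; omega⟩
    subst hq
    have h5 : (q + 2) * (q + 2) - 1 = q * q + 4 * q + 3 := by
      have : (q + 2) * (q + 2) = q * q + 4 * q + 3 + 1 := by ring
      omega
    rw [h5, show q + 2 - 1 = q + 1 by omega] at h4
    nlinarith

end PGroup

end CfsgLib.Soft
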